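import Groth.Agent.H52.TorusRigid
import Groth.Agent.H4.NPowEtale
import Groth.Agent.Lib.Tori.DS
import Groth.Agent.Lib.GrpSch.GeomPoints
import Groth.Agent.Lib.GrpSch.BaseChange

/-!
# The power maps of a torus over a field are surjective
-/

set_option autoImplicit false
set_option linter.style.haveILetI false
set_option backward.isDefEq.respectTransparency false
universe u

open CategoryTheory Limits MonoidalCategory CartesianMonoidalCategory MonObj GrpObj AlgebraicGeometry
open Groth.Agent.Lib Groth.Agent.Lib.RedPts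

namespace Groth.Agent.Lib.TorusPow.Basic

/-- Roots of rational points of a split torus. -/
theorem exists_root_DS {K : Type u} [Field K] [IsAlgClosed K] {r m : ℕ} (hm : 0 < m)
    (y : 𝟙_ (Over (Spec (CommRingCat.of K))) ⟶ Red.DS (Spec (CommRingCat.of K)) (Fin r → ℤ)) :
    ∃ x : 𝟙_ (Over (Spec (CommRingCat.of K))) ⟶ Red.DS (Spec (CommRingCat.of K)) (Fin r → ℤ), x ^ m = y := by
  let R := Γ((𝟙_ (Over (Spec (CommRingCat.of K)))).left, ⊤)
  let σ : ↑R ≃+* K := (Scheme.ΓSpecIso (CommRingCat.of K)).commRingCatIsoToRingEquiv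
  let F : Multiplicative (Fin r → ℤ) →* ↑R :=
    { toFun := fun v => Gm.dsFn y (Multiplicative.toAdd v)
      map_one' := Gm.dsFn_zero y
      map_mul' := fun a b => Gm.dsFn_add y _ _ }
  have hroot : ∀ i : Fin r, ∃ a : (↑R)ˣ, a ^ m = F.toHomUnits (Multiplicative.ofAdd (Pi.single i (1 : ℤ))) := by
    intro i
    set b := F.toHomUnits (Multiplicative.ofAdd (Pi.single i (1 : ℤ)))
    obtain ⟨z, hz⟩ := IsAlgClosed.exists_pow_nat_eq (σ (b : ↑R)) hm
    have hu : IsUnit z := (isUnit_pow_iff hm.ne').mp (by rw [hz]; exact b.isUnit.map σ)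
    refine ⟨(hu.map σ.symm).unit, Units.ext ?_⟩
    rw [Units.val_pow_eq_pow_val, IsUnit.unit_spec, ← map_pow, hz, RingEquiv.symm_apply_apply]
  choose a ha using hroot
  let B := Pi.basisFun ℤ (Fin r)
  let L : (Fin r → ℤ) →ₗ[ℤ] Additive (↑R)ˣ := B.constr ℤ fun i => Additive.ofMul (a i)
  have hL : (m • L : (Fin r → ℤ) →ₗ[ℤ] Additive (↑R)ˣ) = (MonoidHom.toAdditiveRight F.toHomUnits).toIntLinearMap := by
    refine B.ext fun i => ?_
    rw [LinearMap.smul_apply]
    simp only [L, Module.Basis.constr_basis]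
    show m • Additive.ofMul (a i) = Additive.ofMul (F.toHomUnits (Multiplicative.ofAdd (B i)))
    rw [Pi.basisFun_apply, ← ha i]
    rfl
  let χ : Multiplicative (Fin r → ℤ) →* ↑R := (Units.coeHom ↑R).comp (AddMonoidHom.toMultiplicativeLeft L.toAddMonoidHom)
  refine ⟨Gm.dsPt χ, Gm.dsFn_ext fun v => ?_⟩
  rw [Gm.dsFn_pow, Gm.dsFn_dsPt]
  have h := congrArg (fun l => ((Additive.toMul (l v) : (↑R)ˣ) : ↑R)) hL
  simp only [LinearMap.smul_apply, toMul_nsmul, Units.val_pow_eq_pow_val] at h
  exact h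

/-- The power maps of a torus are surjective. -/
theorem surjective_pow {k : Type u} [Field k] {T : Over (Spec (CommRingCat.of k))} [GrpObj T] (hT : Red.IsTorus T)
    {m : ℕ} (hm : 0 < m) : Surjective ((𝟙 T : T ⟶ T) ^ m).left := by
  let K := AlgebraicClosure k
  let e := GrpSch.extBase k K
  have hmap : ∀ j : ℕ, (Over.pullback e).map ((𝟙 T : T ⟶ T) ^ j) = (𝟙 (Red.bc e T)) ^ j := by
    intro j
    induction j with
    | zero => simp [Functor.map_one]
    | succ j ih => rw [pow_succ, Functor.map_mul, ih, CategoryTheory.Functor.map_id, pow_succ]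
  haveI : MorphismProperty.RespectsIso (@Surjective : MorphismProperty Scheme.{u}) :=
    MorphismProperty.IsStableUnderBaseChange.respectsIso
  refine GrpSch.of_bc_map_left k K (P := @Surjective) _ ?_
  rw [hmap m]
  have hTK := Tori.Basic.isTorus_bc hT e
  obtain ⟨r, ⟨g⟩⟩ := H52.TorusRigid.exists_split (Red.bc e T) hTK
  let ε := Tori.BaseChange.overIso g
  haveI : Smooth (Red.bc e T).hom := Tori.Basic.smooth_of_isTorus hTK
  haveI : IsAffineHom (Red.bc e T).hom := Tori.Basic.isAffineHom_of_isTorus hTK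
  haveI : IsAffine (Red.bc e T).left := isAffine_of_isAffineHom (Red.bc e T).hom
  haveI : IsLocallyNoetherian (Red.bc e T).left := LocallyOfFiniteType.isLocallyNoetherian (Red.bc e T).hom
  haveI : JacobsonSpace (Red.bc e T).left := LocallyOfFiniteType.jacobsonSpace (Red.bc e T).hom
  haveI : LocallyOfFiniteType ((𝟙 (Red.bc e T)) ^ m).left := by
    haveI : LocallyOfFiniteType (((𝟙 (Red.bc e T)) ^ m).left ≫ (Red.bc e T).hom) := by rw [Over.w]; infer_instance
    exact locallyOfFiniteType_of_comp _ (Red.bc e T).hom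
  refine GrpSch.surjective_of_closedPoints _ fun c hc => ?_
  let y : 𝟙_ (Over (Spec (CommRingCat.of K))) ⟶ Red.bc e T :=
    Over.homMk (pointOfClosedPoint (Red.bc e T).hom c hc) (pointOfClosedPoint_comp _ _ _)
  obtain ⟨x, hx⟩ := exists_root_DS hm (y ≫ ε.hom)
  refine ⟨(x ≫ ε.inv).left (IsLocalRing.closedPoint K), ?_⟩
  rw [← Scheme.Hom.comp_apply, ← Over.comp_left, MonObj.comp_pow, Category.comp_id,
    ← MonObj.pow_comp x m ε.inv, hx, Category.assoc, ε.hom_inv_id, Category.comp_id]
  exact pointOfClosedPoint_apply _ _ _ _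

end Groth.Agent.Lib.TorusPow.Basic
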